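import Groth.Agent.Hypercov.Boundary
import Mathlib

/-!
Trivial Kan fibrations of simplicial sets via boundary families.
-/

set_option autoImplicit false
set_option backward.isDefEq.respectTransparency false
set_option backward.defeqAttrib.useBackward true

noncomputable section

universe u

open CategoryTheory Simplicial Opposite Groth.Agent.Hypercov

namespace Groth.Agent.SSetLib

variable {U V : SSet.{u}}

/-- The boundary family of a map out of a boundary. -/
def bdryFam {k : ℕ} (a : (SSet.boundary.{u} (k + 1) : SSet.{u}) ⟶ U) (i : Fin (k + 2)) : U _⦋k⦌ :=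
  SSet.yonedaEquiv (SSet.boundary.ι i ≫ a)

lemma map_bdryFam {k : ℕ} (a : (SSet.boundary.{u} (k + 1) : SSet.{u}) ⟶ U) {p : SimplexCategory}
    (e : p ⟶ ⦋k⦌) (i : Fin (k + 2)) :
    U.map e.op (bdryFam a i) = (SSet.boundary.ι i ≫ a).app (op p) (SSet.stdSimplex.objEquiv.symm e) := by
  have h := NatTrans.naturality_apply (SSet.boundary.ι i ≫ a) e.op (SSet.stdSimplex.objEquiv.symm (𝟙 ⦋k⦌))
  refine h.symm.trans (congrArg ((SSet.boundary.ι i ≫ a).app (op p)) ?_)
  apply SSet.stdSimplex.objEquiv.injective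
  exact (Category.comp_id e).trans (Equiv.apply_symm_apply _ _).symm

lemma isBdry_bdryFam {k : ℕ} (a : (SSet.boundary.{u} (k + 1) : SSet.{u}) ⟶ U) :
    IsBdry (bdryFam a) := by
  intro p e e' i j h
  rw [map_bdryFam, map_bdryFam]
  change a.app (op p) ((SSet.boundary.ι i).app (op p) _) = a.app (op p) ((SSet.boundary.ι j).app (op p) _)
  refine congrArg (a.app (op p)) (Subtype.ext ?_)
  apply SSet.stdSimplex.objEquiv.injective
  exact h

/-- A trivial fibration criterion. -/
lemma rlp_I (f : U ⟶ V) (h0 : Function.Surjective (f.app (op ⦋0⦌)))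
    (h : ∀ (k : ℕ) (y : Fin (k + 2) → U _⦋k⦌), IsBdry y → ∀ w : V _⦋k + 1⦌,
      (∀ i, SimplicialObject.δ V i w = f.app (op ⦋k⦌) (y i)) →
      ∃ x : U _⦋k + 1⦌, f.app (op ⦋k + 1⦌) x = w ∧ ∀ i, SimplicialObject.δ U i x = y i) :
    SSet.modelCategoryQuillen.I.rlp f := by
  intro A B g hg
  obtain ⟨n⟩ := hg
  refine ⟨fun {a b} sq => ⟨⟨?_⟩⟩⟩
  cases n with
  | zero =>
    refine ⟨SSet.yonedaEquiv.symm (h0 (SSet.yonedaEquiv b)).choose, SSet.boundary.hom_ext₀, ?_⟩
    apply SSet.yonedaEquiv.injective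
    rw [SSet.yonedaEquiv_comp, Equiv.apply_symm_apply]
    exact (h0 (SSet.yonedaEquiv b)).choose_spec
  | succ k =>
    have hw : ∀ i, SimplicialObject.δ V i (SSet.yonedaEquiv b) = f.app (op ⦋k⦌) (bdryFam a i) := fun i => by
      rw [bdryFam, ← SSet.yonedaEquiv_comp, Category.assoc, sq.w, ← Category.assoc, SSet.boundary.ι_ι,
        SSet.stdSimplex.yonedaEquiv_δ_comp]
    have hex := h k (bdryFam a) (isBdry_bdryFam a) (SSet.yonedaEquiv b) hw
    refine ⟨SSet.yonedaEquiv.symm hex.choose, SSet.boundary.hom_ext fun i => ?_, ?_⟩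
    · apply SSet.yonedaEquiv.injective
      rw [← Category.assoc, SSet.boundary.ι_ι, SSet.stdSimplex.yonedaEquiv_δ_comp, Equiv.apply_symm_apply]
      exact hex.choose_spec.2 i
    · apply SSet.yonedaEquiv.injective
      rw [SSet.yonedaEquiv_comp, Equiv.apply_symm_apply]
      exact hex.choose_spec.1

/-- Truncated simplices of a coskeletal simplicial set are its simplices. -/
lemma trOf_bijective_of_isCoskeletal (n : ℕ) (Z : SSet.{u}) [SimplicialObject.IsCoskeletal Z n]
    (m : SimplexCategory) : Function.Bijective (trOf (X := Z) n (m := m)) :=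
  trOf_bijective (R := 𝟭 (Type u)) n (Adjunction.id (C := Type u)) Z m

end Groth.Agent.SSetLib
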