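import Groth.Agent.S6779
import Groth.Agent.SSetLib.TrivFib
import Mathlib

/-!
Surjective maps of simplicial abelian groups.
-/

set_option autoImplicit false
set_option backward.isDefEq.respectTransparency false
set_option backward.defeqAttrib.useBackward true

noncomputable section

universe u

open CategoryTheory Limits Simplicial Opposite AlgebraicTopology Groth.Agent.Hypercov

namespace Groth.Agent.SSetLib

variable {U V : SimplicialObject AddCommGrpCat.{u}} (f : U ⟶ V)

/-- The underlying simplicial set. -/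
abbrev und (W : SimplicialObject AddCommGrpCat.{u}) : SSet.{u} := W ⋙ forget AddCommGrpCat.{u}

/-- The kernel. -/
def ker : SimplicialObject AddCommGrpCat.{u} where
  obj m := AddCommGrpCat.of (f.app m).hom.ker
  map {m m'} a := AddCommGrpCat.ofHom
    (((U.map a).hom.comp (f.app m).hom.ker.subtype).codRestrict _ fun x =>
      ((NatTrans.naturality_apply f a x.1).trans ((congrArg (V.map a).hom x.2).trans (map_zero _)) :))
  map_id m := by
    ext x
    exact ConcreteCategory.congr_hom (U.map_id m) x.1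
  map_comp a b := by
    ext x
    exact ConcreteCategory.congr_hom (U.map_comp a b) x.1

/-- The inclusion of the kernel. -/
def kerι : ker f ⟶ U where
  app m := AddCommGrpCat.ofHom (f.app m).hom.ker.subtype
  naturality _ _ _ := rfl

lemma kerι_comp : kerι f ≫ f = 0 := by
  ext m x
  exact x.2

lemma kanComplex_und (W : SimplicialObject AddCommGrpCat.{u}) : SSet.KanComplex (und W) :=
  Groth.Agent.S6779.result (W ⋙ AddCommGrpCat.toCommGrp ⋙ forget₂ CommGrpCat GrpCat)

/-- Subtract a chosen lift from a map. -/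
def residual {B D : SSet.{u}} (a : B ⟶ und U) (ι : B ⟶ D) (b : D ⟶ und V) (c : D ⟶ und U)
    (w : a ≫ Functor.whiskerRight f _ = ι ≫ b) (hc : c ≫ Functor.whiskerRight f _ = b) : B ⟶ und (ker f) where
  app m := ↾fun s => ⟨(a.app m s : U.obj m) - (c.app m (ι.app m s) : U.obj m), by
    have h1 : (f.app m).hom (a.app m s) = b.app m (ι.app m s) :=
      ConcreteCategory.congr_hom (NatTrans.congr_app w m) s
    have h2 : (f.app m).hom (c.app m (ι.app m s)) = b.app m (ι.app m s) :=
      ConcreteCategory.congr_hom (NatTrans.congr_app hc m) (ι.app m s)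
    rw [AddMonoidHom.mem_ker, map_sub, h1, h2]
    exact sub_self (G := V.obj m) _⟩
  naturality m m' g := ConcreteCategory.hom_ext _ _ fun s => Subtype.ext <| by
    change (a.app m' (B.map g s) : U.obj m') - (c.app m' (ι.app m' (B.map g s)) : U.obj m') =
      (U.map g).hom ((a.app m s : U.obj m) - (c.app m (ι.app m s) : U.obj m))
    rw [map_sub, NatTrans.naturality_apply a, NatTrans.naturality_apply ι, NatTrans.naturality_apply c]
    rfl

/-- Add a map into the kernel. -/
def addKer {D : SSet.{u}} (c : D ⟶ und U) (σ : D ⟶ und (ker f)) : D ⟶ und U where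
  app m := ↾fun s => (c.app m s : U.obj m) + (kerι f).app m (σ.app m s)
  naturality m m' g := ConcreteCategory.hom_ext _ _ fun s => by
    change (c.app m' (D.map g s) : U.obj m') + (kerι f).app m' (σ.app m' (D.map g s)) =
      (U.map g).hom ((c.app m s : U.obj m) + (kerι f).app m (σ.app m s))
    rw [map_add, NatTrans.naturality_apply c, NatTrans.naturality_apply σ]
    rfl

lemma addKer_comp {D : SSet.{u}} (c : D ⟶ und U) (σ : D ⟶ und (ker f)) :
    addKer f c σ ≫ Functor.whiskerRight f _ = c ≫ Functor.whiskerRight f _ := by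
  ext m s
  change (f.app m).hom ((c.app m s : U.obj m) + (kerι f).app m (σ.app m s)) = (f.app m).hom (c.app m s)
  rw [map_add]
  exact (congrArg (_ + ·) (σ.app m s).2).trans (add_zero _)

lemma exists_lift {B D : SSet.{u}} (a : B ⟶ und U) (ι : B ⟶ D) (b : D ⟶ und V) (c : D ⟶ und U)
    (w : a ≫ Functor.whiskerRight f _ = ι ≫ b) (hc : c ≫ Functor.whiskerRight f _ = b)
    (σ : D ⟶ und (ker f)) (hσ : residual f a ι b c w hc = ι ≫ σ) :
    ∃ l : D ⟶ und U, ι ≫ l = a ∧ l ≫ Functor.whiskerRight f _ = b := by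
  refine ⟨addKer f c σ, ?_, by rw [addKer_comp, hc]⟩
  ext m s
  have h : (kerι f).app m (σ.app m (ι.app m s)) = (a.app m s : U.obj m) - (c.app m (ι.app m s) : U.obj m) :=
    congrArg (fun x => (kerι f).app m x) (ConcreteCategory.congr_hom (NatTrans.congr_app hσ m) s).symm
  change (c.app m (ι.app m s) : U.obj m) + (kerι f).app m (σ.app m (ι.app m s)) = a.app m s
  rw [h]
  exact add_sub_cancel _ _

variable (hf : ∀ n : SimplexCategoryᵒᵖ, Function.Surjective (f.app n))

include hf in
lemma exists_lift_simplex {n : ℕ} (b : Δ[n] ⟶ und V) :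
    ∃ c : Δ[n] ⟶ und U, c ≫ Functor.whiskerRight f _ = b := by
  obtain ⟨x, hx⟩ := hf _ (SSet.yonedaEquiv b)
  refine ⟨SSet.yonedaEquiv.symm (x : (und U) _⦋n⦌), SSet.yonedaEquiv.injective ?_⟩
  rw [SSet.yonedaEquiv_comp, Equiv.apply_symm_apply]
  exact hx

include hf in
/-- A surjective map is a Kan fibration. -/
theorem rlp_J : SSet.modelCategoryQuillen.J.rlp (X := und U) (Y := und V) (Functor.whiskerRight f _) := by
  intro B D g hg
  simp only [SSet.modelCategoryQuillen.J, MorphismProperty.iSup_iff] at hg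
  obtain ⟨n, ⟨i⟩⟩ := hg
  refine ⟨fun {a b} sq => ?_⟩
  obtain ⟨c, hc⟩ := exists_lift_simplex f hf b
  haveI := kanComplex_und (ker f)
  obtain ⟨σ, hσ⟩ := SSet.KanComplex.hornFilling (residual f a _ b c sq.w hc)
  obtain ⟨l, h1, h2⟩ := exists_lift f a _ b c sq.w hc σ hσ
  exact ⟨⟨⟨l, h1, h2⟩⟩⟩

lemma homSum_apply {P Q : AddCommGrpCat.{u}} {ι : Type*} (s : Finset ι) (g : ι → (P ⟶ Q)) (x : P) :
    (∑ i ∈ s, g i).hom x = ∑ i ∈ s, (g i).hom x := by
  change AddCommGrpCat.homAddEquiv (∑ i ∈ s, g i) x = _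
  rw [map_sum, AddMonoidHom.finsetSum_apply]
  rfl

section Acyclic

variable (W : SimplicialObject AddCommGrpCat.{u})
    (hW : ∀ n, ((alternatingFaceMapComplex AddCommGrpCat.{u}).obj W).ExactAt n)

include hW in
lemma exists_filler_zero_boundary {k : ℕ} (c : W _⦋k⦌)
    (hc : ∀ (m : ℕ) (hm : k = m + 1) (i : Fin (m + 2)), (W.δ i).hom (hm ▸ c) = 0) :
    ∃ x : W _⦋k + 1⦌, (W.δ (0 : Fin (k + 2))).hom x = c ∧ ∀ j : Fin (k + 1), (W.δ j.succ).hom x = 0 := by
  classical
  let Y : AddCommGrpCat.{u} := AddCommGrpCat.of (AddSubgroup.zmultiples c)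
  let φ : Y ⟶ W _⦋k⦌ := AddCommGrpCat.ofHom (AddSubgroup.zmultiples c).subtype
  let g : Y := ⟨c, AddSubgroup.mem_zmultiples c⟩
  have hP : (DoldKan.PInfty.f k : W _⦋k⦌ ⟶ W _⦋k⦌).hom c = c := by
    cases k with
    | zero => rw [DoldKan.PInfty_f, DoldKan.P_f_0_eq]; rfl
    | succ m =>
      have hv : DoldKan.HigherFacesVanish (m + 1) φ := fun j _ => by
        ext ⟨y, hy⟩
        obtain ⟨z, rfl⟩ := AddSubgroup.mem_zmultiples_iff.1 hy
        change (W.δ j.succ).hom (z • c) = 0
        rw [map_zsmul, hc m rfl j.succ]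
        exact smul_zero z
      rw [DoldKan.PInfty_f]
      exact ConcreteCategory.congr_hom hv.comp_P_eq_self g
  have hex := hW k
  rw [HomologicalComplex.exactAt_iff' _ (k + 1) k _ (by simp) rfl, ShortComplex.ab_exact_iff] at hex
  obtain ⟨x, hx⟩ : ∃ x : W _⦋k + 1⦌,
      (((alternatingFaceMapComplex AddCommGrpCat.{u}).obj W).d (k + 1) k).hom x = c := by
    refine hex c ?_
    cases k with
    | zero =>
      change (((alternatingFaceMapComplex AddCommGrpCat.{u}).obj W).d 0 _).hom c = 0
      rw [HomologicalComplex.shape _ _ _ (by simp)]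
      rfl
    | succ m =>
      change (((alternatingFaceMapComplex AddCommGrpCat.{u}).obj W).d (m + 1) _).hom c = 0
      rw [ChainComplex.next_nat_succ]
      change ((alternatingFaceMapComplex AddCommGrpCat.{u}).obj W |>.d (m + 1) m).hom c = 0
      simp only [alternatingFaceMapComplex_obj_d, AlternatingFaceMapComplex.objD]
      rw [homSum_apply]
      refine Finset.sum_eq_zero fun i _ => ?_
      change (-1 : ℤ) ^ (i : ℕ) • (W.δ i).hom c = 0
      rw [show (W.δ i).hom c = 0 from hc m rfl i, smul_zero]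
  let P := (DoldKan.PInfty.f (k + 1) : W _⦋k + 1⦌ ⟶ W _⦋k + 1⦌)
  have hz : ∀ j : Fin (k + 1), P ≫ W.δ j.succ = 0 := fun j => by
    simp only [P, DoldKan.PInfty_f]
    exact DoldKan.HigherFacesVanish.of_P (k + 1) k j (by omega)
  refine ⟨P.hom x, ?_, fun j => ConcreteCategory.congr_hom (hz j) x⟩
  have hd : ((alternatingFaceMapComplex AddCommGrpCat.{u}).obj W).d (k + 1) k =
      W.δ 0 + ∑ j : Fin (k + 1), (-1 : ℤ) ^ ((j.succ : Fin (k + 2)) : ℕ) • W.δ j.succ := by
    simp only [alternatingFaceMapComplex_obj_d, AlternatingFaceMapComplex.objD]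
    rw [Fin.sum_univ_succ]
    simp
  have h1 : P ≫ W.δ 0 = ((alternatingFaceMapComplex AddCommGrpCat.{u}).obj W).d (k + 1) k ≫ DoldKan.PInfty.f k := by
    rw [show ((alternatingFaceMapComplex AddCommGrpCat.{u}).obj W).d (k + 1) k ≫ DoldKan.PInfty.f k =
        P ≫ ((alternatingFaceMapComplex AddCommGrpCat.{u}).obj W).d (k + 1) k from
      ((DoldKan.PInfty (X := W)).comm (k + 1) k).symm, hd]
    change _ = P ≫ _
    rw [Preadditive.comp_add, Preadditive.comp_sum, Finset.sum_eq_zero fun j _ => by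
      rw [Preadditive.comp_zsmul, hz j, smul_zero], add_zero]
  refine (ConcreteCategory.congr_hom h1 x).trans ?_
  change (DoldKan.PInfty.f k : W _⦋k⦌ ⟶ W _⦋k⦌).hom ((((alternatingFaceMapComplex AddCommGrpCat.{u}).obj W).d (k + 1) k).hom x) = c
  rw [hx, hP]

end Acyclic

end Groth.Agent.SSetLib

namespace Groth.Agent.SSetLib

variable {U V : SimplicialObject AddCommGrpCat.{u}} (f : U ⟶ V)
  (hf : ∀ n : SimplexCategoryᵒᵖ, Function.Surjective (f.app n))

include hf in
lemma exactAt_ker (hq : QuasiIso ((alternatingFaceMapComplex AddCommGrpCat.{u}).map f)) (n : ℕ) :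
    ((alternatingFaceMapComplex AddCommGrpCat.{u}).obj (ker f)).ExactAt n := by
  let F := alternatingFaceMapComplex AddCommGrpCat.{u}
  have hz : F.map (kerι f) ≫ F.map f = 0 := by
    ext i x
    exact x.2
  let S : ShortComplex (ChainComplex AddCommGrpCat.{u} ℕ) := ShortComplex.mk (F.map (kerι f)) (F.map f) hz
  have hS : S.ShortExact := HomologicalComplex.shortExact_of_degreewise_shortExact _ fun i =>
    { exact := (ShortComplex.ab_exact_iff _).2 fun (x : U _⦋i⦌) (hx : (f.app (op ⦋i⦌)).hom x = 0) => ⟨⟨x, hx⟩, rfl⟩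
      mono_f := (AddCommGrpCat.mono_iff_injective _).2 Subtype.val_injective
      epi_g := (AddCommGrpCat.epi_iff_surjective _).2 (hf _) }
  haveI : QuasiIso S.g := hq
  have hfz : HomologicalComplex.homologyMap S.f n = 0 := by
    rw [← cancel_mono (HomologicalComplex.homologyMap S.g n), ← HomologicalComplex.homologyMap_comp, S.zero,
      HomologicalComplex.homologyMap_zero, zero_comp]
  have hδ : hS.δ (n + 1) n (by simp) = 0 := by
    rw [← cancel_epi (HomologicalComplex.homologyMap S.g (n + 1)), hS.comp_δ, comp_zero]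
  have hex := hS.homology_exact₁ (n + 1) n (by simp)
  rw [HomologicalComplex.exactAt_iff_isZero_homology]
  exact hex.isZero_X₂ hδ hfz

include hf in
/-- A surjective quasi-isomorphism is a trivial Kan fibration. -/
theorem rlp_I_of_quasiIso (hq : QuasiIso ((alternatingFaceMapComplex AddCommGrpCat.{u}).map f)) :
    SSet.modelCategoryQuillen.I.rlp (X := und U) (Y := und V) (Functor.whiskerRight f _) := by
  refine rlp_I _ (hf _) fun k y hy w hw => ?_
  obtain ⟨x₀, hx₀⟩ := hf (op ⦋k + 1⦌) w
  let y' : Fin (k + 2) → (und (ker f)) _⦋k⦌ := fun i => ⟨(y i : U _⦋k⦌) - (U.δ i).hom x₀, by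
    have h2 : (f.app (op ⦋k⦌)).hom ((U.δ i).hom x₀) = (V.δ i).hom w := by
      rw [← hx₀]
      exact NatTrans.naturality_apply f _ x₀
    rw [AddMonoidHom.mem_ker, map_sub, h2, sub_eq_zero]
    exact (hw i).symm⟩
  have hy' : IsBdry (X := und (ker f)) y' := fun p a b i j h => Subtype.ext <| by
    change (U.map a.op).hom ((y i : U _⦋k⦌) - (U.δ i).hom x₀) = (U.map b.op).hom ((y j : U _⦋k⦌) - (U.δ j).hom x₀)
    rw [map_sub, map_sub]
    have e1 : (U.map a.op).hom (y i) = (U.map b.op).hom (y j) := hy a b i j h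
    have e2 : (U.map a.op).hom ((U.δ i).hom x₀) = (U.map b.op).hom ((U.δ j).hom x₀) := by
      change (U.map a.op).hom ((U.map (SimplexCategory.δ i).op).hom x₀) = (U.map b.op).hom ((U.map (SimplexCategory.δ j).op).hom x₀)
      rw [← AddMonoidHom.comp_apply, ← AddCommGrpCat.hom_comp, ← U.map_comp, ← op_comp, h, op_comp, U.map_comp]
      rfl
    rw [e1, e2]
  obtain ⟨φ, hφ⟩ := (SSet.KanComplex.iff.1 (kanComplex_und (ker f))) (i := (0 : Fin (k + 2)))
    (fun j _ => SSet.yonedaEquiv.symm (y' j)) (by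
      cases k with
      | zero => trivial
      | succ m =>
        intro j l hj hl hjl
        apply SSet.yonedaEquiv.injective
        rw [SSet.stdSimplex.yonedaEquiv_δ_comp, SSet.stdSimplex.yonedaEquiv_δ_comp, Equiv.apply_symm_apply,
          Equiv.apply_symm_apply]
        refine (hy' _ _ _ _ ?_).symm
        have := SimplexCategory.δ_comp_δ (show j.castPred (Fin.ne_last_of_lt hjl) ≤ l.pred (Fin.ne_zero_of_lt hjl) by
          rw [Fin.le_iff_val_le_val, Fin.val_pred, Fin.coe_castPred]
          have := Fin.lt_def.1 hjl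
          omega)
        rw [Fin.succ_pred, Fin.castSucc_castPred] at this
        exact this)
  let z := SSet.yonedaEquiv φ
  have hz : ∀ j : Fin (k + 2), j ≠ 0 → ((ker f).δ j).hom z = y' j := fun j hj => by
    have := congrArg SSet.yonedaEquiv (hφ j hj)
    rw [SSet.stdSimplex.yonedaEquiv_δ_comp, Equiv.apply_symm_apply] at this
    exact this
  let c : (ker f) _⦋k⦌ := (y' 0 : (ker f) _⦋k⦌) - ((ker f).δ (0 : Fin (k + 2))).hom z
  obtain ⟨x, hx0, hx⟩ := exists_filler_zero_boundary (ker f) (exactAt_ker f hf hq) c (by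
    rintro m rfl i
    change ((ker f).δ i).hom c = 0
    simp only [c, map_sub, sub_eq_zero]
    have e : SimplexCategory.δ i ≫ SimplexCategory.δ (0 : Fin (m + 1 + 2)) = SimplexCategory.δ 0 ≫ SimplexCategory.δ i.succ :=
      (SimplexCategory.δ_comp_δ (Fin.zero_le i)).symm
    refine ((hy' _ _ 0 i.succ e).trans ?_)
    change ((ker f).map (SimplexCategory.δ 0).op).hom (y' i.succ) = _
    rw [← hz i.succ (Fin.succ_ne_zero i)]
    change ((ker f).map _).hom (((ker f).map _).hom z) = ((ker f).map _).hom (((ker f).map _).hom z)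
    rw [← AddMonoidHom.comp_apply, ← AddCommGrpCat.hom_comp, ← Functor.map_comp, ← op_comp, ← e, op_comp, Functor.map_comp]
    rfl)
  refine ⟨x₀ + (kerι f).app _ (z + x : (ker f) _⦋k + 1⦌), ?_, fun j => ?_⟩
  · change (f.app _).hom (x₀ + _) = w
    rw [map_add]
    exact (congrArg (_ + ·) (z + x : (ker f) _⦋k + 1⦌).2).trans ((add_zero _).trans hx₀)
  · have hj : ((ker f).δ j).hom (z + x : (ker f) _⦋k + 1⦌) = y' j := by
      rw [map_add]
      rcases Fin.eq_zero_or_eq_succ j with rfl | ⟨j', rfl⟩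
      · rw [hx0]; exact add_sub_cancel _ _
      · rw [hz _ (Fin.succ_ne_zero j'), hx j', add_zero]
    change (U.δ j).hom (x₀ + _) = y j
    rw [map_add]
    have := congrArg Subtype.val hj
    change (U.δ j).hom ((kerι f).app _ (z + x : (ker f) _⦋k + 1⦌)) = (y j : U _⦋k⦌) - (U.δ j).hom x₀ at this
    rw [this]
    exact add_sub_cancel _ _

end Groth.Agent.SSetLib
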