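import Groth.Agent.S6810
import Mathlib

/-!
Skeleta of simplicial objects in abelian categories.
-/

set_option autoImplicit false
set_option backward.isDefEq.respectTransparency false
set_option backward.defeqAttrib.useBackward true

noncomputable section

universe v u

open CategoryTheory Limits Simplicial Opposite AlgebraicTopology

namespace Groth.Agent.SSetLib

variable {A : Type u} [Category.{v} A] [Abelian A]

lemma comp_PInfty_of_le_normalized (U : SimplicialObject A) (m : ℕ) {T : A} (x : T ⟶ U _⦋m⦌)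
    (hx : (NormalizedMooreComplex.objX U m).Factors x) :
    x ≫ DoldKan.PInfty.f m = x := by
  cases m with
  | zero => rw [DoldKan.PInfty_f, DoldKan.P_f_0_eq]; exact Category.comp_id x
  | succ k =>
    rw [DoldKan.PInfty_f]
    refine DoldKan.HigherFacesVanish.comp_P_eq_self fun j _ => ?_
    have h := (Subobject.finset_inf_factors _).1 hx j (Finset.mem_univ _)
    exact (kernelSubobject_factors_iff _ _).1 h

lemma not_mono_of_lt {i m : ℕ} (h : i < m) (θ : ⦋m⦌ ⟶ ⦋i⦌) : ¬ Mono θ := fun _ => by
  have := SimplexCategory.len_le_of_mono θ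
  simp at this
  omega

lemma inf_normalized_eq_bot (U : SimplicialObject A) (m : ℕ) (W : Subobject (U _⦋m⦌))
    (hW : W.arrow ≫ DoldKan.PInfty.f m = 0) : W ⊓ NormalizedMooreComplex.objX U m = ⊥ := by
  let X := W ⊓ NormalizedMooreComplex.objX U m
  obtain ⟨h1, h2⟩ := (Subobject.inf_factors _).1 (Subobject.factors_self X)
  have h0 : X.arrow = 0 := by
    rw [← comp_PInfty_of_le_normalized U m X.arrow h2, ← Subobject.factorThru_arrow W X.arrow h1,
      Category.assoc, hW, comp_zero]
  refine eq_bot_iff.2 (Subobject.le_of_comm 0 ?_)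
  rw [zero_comp]
  exact h0.symm

lemma comp_eq_zero_of_isLUB {X Y : A} {ι : Type*} {Z : ι → A} (g : ∀ i, Z i ⟶ X) (W : Subobject X)
    (hW : IsLUB (Set.range fun i => imageSubobject (g i)) W) (h : X ⟶ Y) (hg : ∀ i, g i ≫ h = 0) :
    W.arrow ≫ h = 0 := by
  have hle : W ≤ kernelSubobject h := hW.2 <| by
    rintro _ ⟨i, rfl⟩
    exact imageSubobject_le _ (factorThruKernelSubobject h (g i) (hg i)) (by simp)
  rw [← Subobject.ofLE_arrow hle, Category.assoc, kernelSubobject_arrow_comp, comp_zero]

section Sk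

variable (m : ℕ) [∀ F : (SimplexCategory.Truncated m)ᵒᵖ ⥤ A,
  (SimplexCategory.Truncated.inclusion m).op.HasLeftKanExtension F]

lemma sk_jointly_epi (U : SimplicialObject.Truncated A m) (n : ℕ) {Y : A}
    (h : ((SimplicialObject.Truncated.sk m).obj U) _⦋n⦌ ⟶ Y)
    (hh : ∀ (i : ℕ) (_ : i ≤ m) (θ : ⦋n⦌ ⟶ ⦋i⦌),
      ((SimplicialObject.Truncated.sk m).obj U).map θ.op ≫ h = 0) : h = 0 := by
  haveI := Groth.Agent.S6810.result m U
  let L := (SimplexCategory.Truncated.inclusion m).op
  let α : U ⟶ L ⋙ (SimplicialObject.Truncated.sk m).obj U := L.lanUnit.app U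
  have hα : (Functor.LeftExtension.mk _ α).IsPointwiseLeftKanExtension :=
    Functor.isPointwiseLeftKanExtensionOfIsLeftKanExtension _ α
  refine (hα (op ⦋n⦌)).hom_ext fun g => ?_
  rw [comp_zero]
  change (α.app g.left ≫ ((SimplicialObject.Truncated.sk m).obj U).map g.hom) ≫ h = 0
  obtain ⟨⟨⟨⟨i⟩, hi⟩⟩, ⟨⟨⟩⟩, f⟩ := g
  rw [Category.assoc]
  exact (congrArg (α.app _ ≫ ·) (hh i hi f.unop)).trans comp_zero

lemma objX_sk_eq_bot (U : SimplicialObject.Truncated A m) (n : ℕ) (hn : m < n) :
    NormalizedMooreComplex.objX ((SimplicialObject.Truncated.sk m).obj U) n = ⊥ := by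
  have h : DoldKan.PInfty.f n = (0 : ((SimplicialObject.Truncated.sk m).obj U) _⦋n⦌ ⟶ _) :=
    sk_jointly_epi m U n _ fun i hi θ =>
      DoldKan.degeneracy_comp_PInfty _ n θ (not_mono_of_lt (by omega) θ)
  rw [← inf_normalized_eq_bot ((SimplicialObject.Truncated.sk m).obj U) n ⊤ (by rw [h, comp_zero]), top_inf_eq]

lemma isIso_truncation_map_counit (U : SimplicialObject A) :
    IsIso ((SimplicialObject.truncation m).map ((SimplicialObject.skAdj m).counit.app U)) := by
  haveI : ∀ F : (SimplexCategory.Truncated m)ᵒᵖ ⥤ A,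
      (SimplexCategory.Truncated.inclusion m).op.HasPointwiseLeftKanExtension F := fun F => Groth.Agent.S6810.result m F
  haveI : IsIso (SimplicialObject.skAdj (C := A) m).unit :=
    inferInstanceAs (IsIso ((SimplexCategory.Truncated.inclusion m).op.lanAdjunction A).unit)
  haveI := NatIso.isIso_app_of_isIso (SimplicialObject.skAdj (C := A) m).unit ((SimplicialObject.truncation m).obj U)
  exact IsIso.of_isIso_fac_left ((SimplicialObject.skAdj m).right_triangle_components U)

lemma counit_mono_app (U : SimplicialObject A) (k : ℕ) :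
    Mono (((SimplicialObject.skAdj m).counit.app U).app (op ⦋k⦌)) := by
  let S := (SimplicialObject.Truncated.sk m).obj ((SimplicialObject.truncation m).obj U)
  let φ : S ⟶ U := (SimplicialObject.skAdj m).counit.app U
  change Mono (φ.app (op ⦋k⦌))
  induction k with
  | zero =>
    haveI : IsIso ((SimplicialObject.truncation m).map φ) := isIso_truncation_map_counit m U
    haveI := NatIso.isIso_app_of_isIso ((SimplicialObject.truncation m).map φ) (op ⟨⦋0⦌, Nat.zero_le m⟩)
    exact inferInstanceAs (Mono (((SimplicialObject.truncation m).map φ).app (op ⟨⦋0⦌, Nat.zero_le m⟩)))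
  | succ j ih =>
    by_cases hj : j + 1 ≤ m
    · haveI : IsIso ((SimplicialObject.truncation m).map φ) :=
        isIso_truncation_map_counit m U
      haveI := NatIso.isIso_app_of_isIso ((SimplicialObject.truncation m).map φ) (op ⟨⦋j + 1⦌, hj⟩)
      exact inferInstanceAs (Mono (((SimplicialObject.truncation m).map φ).app (op ⟨⦋j + 1⦌, hj⟩)))
    · refine Preadditive.mono_of_cancel_zero _ fun {T} x hx => ?_
      have hP : x ≫ (DoldKan.P (j + 1)).f (j + 1) = 0 := by
        have h : DoldKan.PInfty.f (j + 1) = (0 : S _⦋j + 1⦌ ⟶ _) :=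
          sk_jointly_epi m _ (j + 1) _ fun i hi θ =>
            DoldKan.degeneracy_comp_PInfty _ _ θ (not_mono_of_lt (by omega) θ)
        rw [DoldKan.PInfty_f] at h
        rw [h, comp_zero]
      rw [← Category.comp_id x, ← DoldKan.P_add_Q_f (j + 1) (j + 1), Preadditive.comp_add, hP, zero_add,
        DoldKan.decomposition_Q, Preadditive.comp_sum]
      refine Finset.sum_eq_zero fun i _ => ?_
      have h1 : x ≫ (DoldKan.P (i : ℕ)).f (j + 1) ≫ S.δ i.rev.succ = 0 := by
        rw [← cancel_mono (φ.app (op ⦋j⦌)), zero_comp, Category.assoc, Category.assoc]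
        change x ≫ (DoldKan.P (i : ℕ)).f (j + 1) ≫ S.map _ ≫ φ.app _ = 0
        rw [φ.naturality, ← Category.assoc ((DoldKan.P (i : ℕ)).f (j + 1)), ← DoldKan.P_f_naturality,
          Category.assoc, reassoc_of% hx, zero_comp]
      rw [← Category.assoc, ← Category.assoc, Category.assoc x, h1, zero_comp]

lemma imageSubobject_counit (U : SimplicialObject A) (k : ℕ) (W : Subobject (U _⦋k⦌))
    (hW : IsLUB (Set.range fun φ : Σ i : Fin (m + 1), (⦋k⦌ ⟶ ⦋(i : ℕ)⦌) => imageSubobject (U.map φ.2.op)) W) :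
    imageSubobject (((SimplicialObject.skAdj m).counit.app U).app (op ⦋k⦌)) = W := by
  let S := (SimplicialObject.Truncated.sk m).obj ((SimplicialObject.truncation m).obj U)
  let φ : S ⟶ U := (SimplicialObject.skAdj m).counit.app U
  change imageSubobject (φ.app (op ⦋k⦌)) = W
  haveI : IsIso ((SimplicialObject.truncation m).map φ) := isIso_truncation_map_counit m U
  refine le_antisymm ?_ (hW.2 ?_)
  · have h0 : φ.app (op ⦋k⦌) ≫ cokernel.π W.arrow = 0 := sk_jointly_epi m _ k _ fun i hi θ => by
      rw [← Category.assoc]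
      change (S.map θ.op ≫ φ.app _) ≫ _ = 0
      rw [φ.naturality, Category.assoc]
      have hle : imageSubobject (U.map θ.op) ≤ W := hW.1 ⟨⟨⟨i, by omega⟩, θ⟩, rfl⟩
      have : U.map θ.op = (factorThruImageSubobject (U.map θ.op) ≫ Subobject.ofLE _ _ hle) ≫ W.arrow := by simp
      rw [this, Category.assoc, cokernel.condition, comp_zero, comp_zero]
    exact imageSubobject_le _ (Abelian.monoLift W.arrow _ h0) (Abelian.monoLift_comp _ _ h0)
  · rintro _ ⟨⟨⟨i, hi⟩, θ⟩, rfl⟩
    haveI := NatIso.isIso_app_of_isIso ((SimplicialObject.truncation m).map φ) (op ⟨⦋i⦌, Nat.le_of_lt_succ hi⟩)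
    haveI : IsIso (φ.app (op ⦋i⦌)) :=
      inferInstanceAs (IsIso (((SimplicialObject.truncation m).map φ).app (op ⟨⦋i⦌, Nat.le_of_lt_succ hi⟩)))
    have : U.map θ.op = inv (φ.app (op ⦋i⦌)) ≫ S.map θ.op ≫ φ.app (op ⦋k⦌) := by
      rw [φ.naturality, IsIso.inv_hom_id_assoc]
    exact imageSubobject_le _ (inv (φ.app (op ⦋i⦌)) ≫ S.map θ.op ≫ factorThruImageSubobject _)
      (by simp only [Category.assoc, imageSubobject_arrow_comp]; exact this.symm)

end Sk

end Groth.Agent.SSetLib
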